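import Mathlib
import Groth.Agent.DeltaFlat.Local

/-!
A local ring of dimension one of a ring integrally closed in an extension in which suitable
elements become invertible is a discrete valuation ring.
-/

namespace Groth.Agent.NormDVR

universe u v

open Polynomial

variable {C : Type u} {B : Type v} [CommRing C] [CommRing B] [Algebra C B]

/-- Let `C` be a reduced Noetherian ring integrally closed in `B`, `p` a prime with `C_p` of
dimension one. If every element outside all the primes strictly below `p` divides, in `B`,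
some element outside `p`, then `C_p` is a discrete valuation ring. -/
theorem exists_isDiscreteValuationRing [IsNoetherianRing C] [IsReduced C]
    (hinj : Function.Injective (algebraMap C B))
    (hic : ∀ z : B, IsIntegral C z → z ∈ Set.range (algebraMap C B))
    (p : Ideal C) [p.IsPrime] (A : Type u) [CommRing A] [Algebra C A]
    [IsLocalization.AtPrime A p] [IsLocalRing A] (hdim : ringKrullDim A = 1)
    (hunit : ∀ c : C, (∀ q : Ideal C, q.IsPrime → q ≤ p → q ≠ p → c ∉ q) →
      ∃ d, d ∉ p ∧ algebraMap C B c ∣ algebraMap C B d) :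
    ∃ _ : IsDomain A, IsDiscreteValuationRing A := by
  classical
  have hA : IsNoetherianRing A := IsLocalization.isNoetherianRing p.primeCompl A inferInstance
  have hp : p.height = 1 := by
    rw [IsLocalization.AtPrime.ringKrullDim_eq_height p A] at hdim
    exact_mod_cast hdim
  have hmin : ∀ q : Ideal C, q.IsPrime → q ≤ p → q ≠ p → q ∈ minimalPrimes C := by
    intro q hq hle hne
    have h : q.height < p.height := Ideal.height_strict_mono_of_isPrime (lt_of_le_of_ne hle hne)
    rw [hp] at h
    exact Ideal.height_eq_zero_iff.1 (Order.lt_one_iff.1 h)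
  have hpmin : p ∉ minimalPrimes C := fun h => by
    rw [Ideal.height_eq_zero_iff.2 h] at hp
    exact zero_ne_one hp
  have hfin : (minimalPrimes C).Finite := minimalPrimes.finite_of_isNoetherianRing C
  obtain ⟨c, hcp, hc⟩ : ∃ c ∈ p, ∀ q ∈ minimalPrimes C, c ∉ q := by
    by_contra! h
    have hsub : (p : Set C) ⊆ ⋃ q ∈ (↑hfin.toFinset : Set (Ideal C)), (q : Set C) := fun x hx => by
      obtain ⟨q, hq, hxq⟩ := h x hx
      exact Set.mem_biUnion (by simpa using hq) hxq
    obtain ⟨q, hq, hle⟩ := (Ideal.subset_union_prime p p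
      (fun q hq _ _ => (hfin.mem_toFinset.1 hq).1.1)).1 hsub
    have hq' : q ∈ minimalPrimes C := hfin.mem_toFinset.1 hq
    exact hpmin (hle.antisymm (hq'.2 ⟨‹p.IsPrime›, bot_le⟩ hle) ▸ hq')
  have hreg : ∀ x : C, c * x = 0 → x = 0 := by
    intro x hx
    have : x ∈ nilradical C := by
      rw [nilradical_eq_sInf, Ideal.mem_sInf]
      intro P (hP : P.IsPrime)
      obtain ⟨q, hq, hqP⟩ := Ideal.exists_minimalPrimes_le (I := ⊥) (J := P) bot_le
      have hqp := hq.1.1
      have h0 : c * x ∈ q := by rw [hx]; exact q.zero_mem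
      exact hqP ((hqp.mem_or_mem h0).resolve_left (hc q hq))
    simpa [nilradical_eq_zero] using this
  have hcq : ∀ q : Ideal C, q.IsPrime → q ≤ p → q ≠ p → c ∉ q := fun q a b e =>
    hc q (hmin q a b e)
  obtain ⟨d, hd, β, hβ⟩ := hunit c hcq
  -- `b` with `b p ⊆ (c)` and no multiple by an element outside `p` in `(c)`
  have hcm : algebraMap C A c ∈ IsLocalRing.maximalIdeal A :=
    (IsLocalization.AtPrime.to_map_mem_maximal_iff A p c).2 hcp
  have hrad : IsLocalRing.maximalIdeal A ≤ (Ideal.span {algebraMap C A c}).radical := by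
    rw [Ideal.radical_eq_sInf]
    refine le_sInf fun Q ⟨hQ, hQp⟩ => ?_
    have hcQ : algebraMap C A c ∈ Q := hQ (Ideal.mem_span_singleton_self _)
    have hle : Q.comap (algebraMap C A) ≤ p := fun x hx => by
      exact (IsLocalization.AtPrime.to_map_mem_maximal_iff A p x).1
        (IsLocalRing.le_maximalIdeal hQp.ne_top hx)
    have heq : Q.comap (algebraMap C A) = p := by
      by_contra hne
      exact hcq _ (hQp.comap _) hle hne hcQ
    rw [← IsLocalization.AtPrime.map_eq_maximalIdeal p A, Ideal.map_le_iff_le_comap]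
    exact heq.ge
  obtain ⟨N₀, hN₀⟩ := Ideal.exists_pow_le_of_le_radical_of_fg hrad (IsNoetherian.noetherian _)
  have hex : ∃ N, IsLocalRing.maximalIdeal A ^ N ≤ Ideal.span {algebraMap C A c} := ⟨N₀, hN₀⟩
  have hN1 : Nat.find hex ≠ 0 := fun h0 => by
    have := Nat.find_spec hex
    rw [h0, pow_zero, Ideal.one_eq_top] at this
    refine (IsLocalRing.maximalIdeal.isMaximal A).ne_top (top_le_iff.1 (this.trans ?_))
    exact (Ideal.span_singleton_le_iff_mem _).2 hcm
  obtain ⟨k, hk⟩ := Nat.exists_eq_succ_of_ne_zero hN1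
  obtain ⟨a, ha, hac⟩ := SetLike.not_le_iff_exists.1
    (Nat.find_min hex (hk ▸ Nat.lt_succ_self k))
  obtain ⟨⟨b₀, s⟩, hb₀⟩ := IsLocalization.surj p.primeCompl a
  have hb₀k : algebraMap C A b₀ ∈ IsLocalRing.maximalIdeal A ^ k := by
    rw [← hb₀]; exact Ideal.mul_mem_right _ _ ha
  have hb₀c : algebraMap C A b₀ ∉ Ideal.span {algebraMap C A c} := by
    rw [← hb₀]
    exact fun h => hac ((Ideal.mul_unit_mem_iff_mem _ (IsLocalization.map_units A s)).1 h)
  have hloc : ∀ x ∈ p, ∃ t ∉ p, t * (b₀ * x) ∈ Ideal.span {c} := by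
    intro x hx
    have h1 : algebraMap C A (b₀ * x) ∈ (Ideal.span {c}).map (algebraMap C A) := by
      rw [Ideal.map_span, Set.image_singleton]
      refine Nat.find_spec hex ?_
      rw [hk, pow_succ, map_mul]
      exact Ideal.mul_mem_mul hb₀k ((IsLocalization.AtPrime.to_map_mem_maximal_iff A p x).2 hx)
    obtain ⟨t, ht, ht'⟩ := (IsLocalization.algebraMap_mem_map_algebraMap_iff p.primeCompl A _ _).1 h1
    exact ⟨t, ht, ht'⟩
  obtain ⟨T, hT⟩ : p.FG := IsNoetherian.noetherian p
  have hTp : ∀ x ∈ T, x ∈ p := fun x hx => hT ▸ Ideal.subset_span hx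
  choose! t ht ht' using hloc
  set u : C := ∏ x ∈ T, t x with hu
  have hup : u ∉ p := fun h => by
    obtain ⟨x, hx, hxp⟩ := (Ideal.IsPrime.prod_mem_iff).1 h
    exact ht x (hTp x hx) hxp
  set b : C := u * b₀ with hb
  have hbp : ∀ x ∈ p, c ∣ b * x := by
    have h : p ≤ Submodule.comap (LinearMap.mulLeft C b) (Ideal.span {c}) := by
      rw [← hT]
      refine Submodule.span_le.2 fun x hx => ?_
      show b * x ∈ Ideal.span {c}
      obtain ⟨w, hw⟩ := Finset.dvd_prod_of_mem t hx
      have h := Ideal.mul_mem_right w _ (ht' x (hTp x hx))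
      rw [show b * x = t x * (b₀ * x) * w by rw [hb, hu, hw]; ring]
      exact h
    exact fun x hx => Ideal.mem_span_singleton.1 (h hx)
  have hbc : ∀ v : C, v ∉ p → ¬ c ∣ v * b := by
    rintro v hv ⟨w, hw⟩
    refine hb₀c (Ideal.mem_span_singleton.2 ?_)
    have hvu : IsUnit (algebraMap C A (v * u)) :=
      IsLocalization.map_units A (⟨v * u, p.primeCompl.mul_mem hv hup⟩ : p.primeCompl)
    refine (hvu.dvd_mul_left).1 ⟨algebraMap C A w, ?_⟩
    rw [← map_mul, ← map_mul, ← hw, hb]; ring_nf
  choose r hr using fun x : p => hbp x.1 x.2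
  have hrlin : ∀ (x y : p) (l : C), r (x + l • y) = r x + l * r y := by
    intro x y l
    refine sub_eq_zero.1 (hreg _ ?_)
    rw [mul_sub, mul_add, ← hr, ← hr, mul_left_comm, ← hr]
    simp only [Submodule.coe_add, Submodule.coe_smul, smul_eq_mul]
    ring
  -- some element of `p` is sent outside `p`
  obtain ⟨x₀, hx₀⟩ : ∃ x : p, r x ∉ p := by
    by_contra! h
    let g : Module.End C p :=
      { toFun := fun x => ⟨d * r x, p.mul_mem_left d (h x)⟩
        map_add' := fun x y => Subtype.ext (by
          have := hrlin x y 1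
          simp only [one_smul, one_mul] at this
          simp [this, mul_add])
        map_smul' := fun l x => Subtype.ext (by
          have h1 := hrlin 0 x l
          have h00 : r 0 = 0 := by
            have := hrlin 0 0 1
            simp only [one_smul, one_mul, add_zero] at this
            linear_combination -this
          simp only [zero_add, h00] at h1
          simp [h1]; ring) }
    obtain ⟨P, hPm, hP⟩ := LinearMap.exists_monic_and_aeval_eq_zero C g
    have hz : ∀ x : p, β * algebraMap C B b * algebraMap C B x.1 = algebraMap C B (g x).1 := by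
      intro x
      show _ = algebraMap C B (d * r x)
      rw [mul_assoc, ← map_mul, hr x, map_mul, map_mul, hβ]; ring
    set z : B := β * algebraMap C B b with hzdef
    have hpow : ∀ (n : ℕ) (x : p), z ^ n * algebraMap C B x.1 = algebraMap C B ((g ^ n) x).1 := by
      intro n
      induction n with
      | zero => intro x; simp
      | succ n ih =>
        intro x
        rw [pow_succ g, Module.End.mul_apply, ← ih, ← hz, pow_succ]; ring
    have hPz : ∀ (Q : C[X]) (x : p),
        aeval z Q * algebraMap C B x.1 = algebraMap C B (aeval g Q x).1 := by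
      intro Q
      induction Q using Polynomial.induction_on' with
      | add Q R hQ hR => intro x; simp [add_mul, hQ, hR]
      | monomial n l => intro x; simp [aeval_monomial, mul_assoc, hpow]
    have h1 : aeval z P * algebraMap C B c = 0 := by
      rw [hPz P ⟨c, hcp⟩, hP]; simp
    have h2 : algebraMap C B d * aeval z P = 0 := by
      rw [hβ]; linear_combination β * h1
    have hn : P.natDegree ≠ 0 := fun h0 => by
      rw [hPm.natDegree_eq_zero.1 h0, map_one, mul_one] at h2
      exact hd ((hinj (h2.trans (map_zero _).symm)).symm ▸ p.zero_mem)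
    have hint : IsIntegral C (algebraMap C B d * z) := by
      refine ⟨P.scaleRoots d, (monic_scaleRoots_iff d).2 hPm, ?_⟩
      rw [scaleRoots_eval₂_mul, ← aeval_def]
      obtain ⟨n, hn⟩ := Nat.exists_eq_succ_of_ne_zero hn
      rw [hn, pow_succ, mul_assoc, h2, mul_zero]
    obtain ⟨e, he⟩ := hic _ hint
    refine hbc (d * d) (p.primeCompl.mul_mem hd hd) ⟨e, hinj ?_⟩
    rw [map_mul _ c e, he, map_mul, map_mul, hzdef, hβ]; ring
  have hru : IsUnit (algebraMap C A (r x₀)) :=
    IsLocalization.map_units A (⟨r x₀, hx₀⟩ : p.primeCompl)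
  have hrx : ∀ x : p, r x₀ * x.1 = r x * x₀.1 := by
    intro x
    refine sub_eq_zero.1 (hreg _ ?_)
    linear_combination (-x.1) * hr x₀ + x₀.1 * hr x
  have hmax : IsLocalRing.maximalIdeal A = Ideal.span {algebraMap C A x₀.1} := by
    refine le_antisymm ?_ ((Ideal.span_singleton_le_iff_mem _).2
      ((IsLocalization.AtPrime.to_map_mem_maximal_iff A p _).2 x₀.2))
    rw [← IsLocalization.AtPrime.map_eq_maximalIdeal p A, Ideal.map_le_iff_le_comap]
    intro x hx
    rw [Ideal.mem_comap, ← Ideal.unit_mul_mem_iff_mem _ hru, ← map_mul, hrx ⟨x, hx⟩, map_mul]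
    exact Ideal.mul_mem_left _ _ (Ideal.mem_span_singleton_self _)
  have hnzd : algebraMap C A x₀.1 ∈ nonZeroDivisors A := by
    refine mem_nonZeroDivisors_iff_right.2 fun w hw => ?_
    obtain ⟨⟨w₀, s'⟩, hw₀⟩ := IsLocalization.surj p.primeCompl w
    have h1 : algebraMap C A (c * w₀) = 0 := by
      rw [← hru.mul_right_eq_zero, ← map_mul, ← mul_assoc, hrx ⟨c, hcp⟩, map_mul, map_mul, ← hw₀]
      linear_combination (algebraMap C A (r ⟨c, hcp⟩) * algebraMap C A (s' : C)) * hw
    obtain ⟨s'', hs''⟩ := (IsLocalization.map_eq_zero_iff p.primeCompl A _).1 h1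
    have h3 : algebraMap C A w₀ = 0 := (IsLocalization.map_eq_zero_iff p.primeCompl A _).2
      ⟨s'', hreg _ (by rw [← hs'']; ring)⟩
    rw [h3] at hw₀
    exact (IsLocalization.map_units A s').mul_left_eq_zero.1 hw₀
  obtain ⟨hdom, -⟩ := DeltaFlat.isDomain_of_maximalIdeal_eq_span _ hmax (Or.inl hnzd)
  have hpir : IsPrincipalIdealRing A := by
    refine ((tfae_of_isNoetherianRing_of_isLocalRing_of_isDomain A).out 0 4).2 ?_
    exact ⟨⟨_, by rw [hmax, Ideal.submodule_span_eq]⟩⟩
  refine ⟨hdom, { __ := hpir, not_a_field' := ?_ }⟩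
  rw [hmax, Ne, Ideal.span_singleton_eq_bot]
  exact nonZeroDivisors.ne_zero hnzd

end Groth.Agent.NormDVR
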